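import Groth.Agent.S12239
import Groth.Agent.S12242
import Groth.Agent.AlgSpD.EtaleTop
import Groth.Agent.TopDimLib.Basic
import Mathlib.RingTheory.Etale.Basic
import Mathlib.RingTheory.RingHom.Etale

/-!
# Fibre supports along compatible etale maps
-/

set_option autoImplicit false
set_option linter.style.haveILetI false
set_option backward.isDefEq.respectTransparency.types false

universe u

open TensorProduct AlgebraicGeometry CategoryTheory

namespace Groth.Agent.EtaleDev

/-- The spectrum of a quotient as the closed set of the ideal. -/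
noncomputable def zlHomeo {A : Type u} [CommRing A] (I : Ideal A) :
    PrimeSpectrum (A ⧸ I) ≃ₜ PrimeSpectrum.zeroLocus (I : Set A) :=
  ((PrimeSpectrum.isClosedEmbedding_comap_of_surjective _ (Ideal.Quotient.mk I)
    Ideal.Quotient.mk_surjective).isEmbedding.toHomeomorph).trans
    (Homeomorph.setCongr (by rw [range_comap_of_surjective _ _ Ideal.Quotient.mk_surjective, Ideal.mk_ker]))

theorem zlHomeo_val {A : Type u} [CommRing A] (I : Ideal A) (x : PrimeSpectrum (A ⧸ I)) :
    (zlHomeo I x).1 = PrimeSpectrum.comap (Ideal.Quotient.mk I) x := rfl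

theorem localDim_eq_of_homeo {Z W : Type u} [TopologicalSpace Z] [TopologicalSpace W] (e : Z ≃ₜ W) (z : Z) :
    FlatMor.localDim W (e z) = FlatMor.localDim Z z := by
  refine le_antisymm (FlatMisc.FibreDimScheme.localDim_homeo e z) ?_
  have := FlatMisc.FibreDimScheme.localDim_homeo e.symm (e z)
  rwa [Homeomorph.symm_apply_apply] at this

/-- Closed subsets and etale maps: dimensions. -/
theorem closed_etale {A B : Type u} [CommRing A] [CommRing B] [Algebra A B] [Algebra.Etale A B] (I : Ideal A) :
    topologicalKrullDim (PrimeSpectrum.zeroLocus (I.map (algebraMap A B) : Set B)) ≤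
        topologicalKrullDim (PrimeSpectrum.zeroLocus (I : Set A)) ∧
      ∀ (x : PrimeSpectrum.zeroLocus (I.map (algebraMap A B) : Set B))
        (y : PrimeSpectrum.zeroLocus (I : Set A)), PrimeSpectrum.comap (algebraMap A B) x.1 = y.1 →
        FlatMor.localDim _ x = FlatMor.localDim _ y := by
  letI : Algebra (A ⧸ I) (B ⧸ I.map (algebraMap A B)) := Ideal.Quotient.algebraQuotientOfLEComap Ideal.le_comap_map
  have hfe : (algebraMap (A ⧸ I) (B ⧸ I.map (algebraMap A B))).Etale := by
    haveI : IsScalarTower A (A ⧸ I) (B ⧸ I.map (algebraMap A B)) := IsScalarTower.of_algebraMap_eq fun _ => rfl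
    haveI : Algebra.Etale (A ⧸ I) ((A ⧸ I) ⊗[A] B) := inferInstance
    rw [RingHom.etale_algebraMap]
    exact Algebra.Etale.of_equiv (AlgEquiv.ofRingEquiv
      (f := ((Algebra.TensorProduct.comm A (A ⧸ I) B).toRingEquiv.trans
        (Algebra.TensorProduct.quotIdealMapEquivTensorQuot B I).symm.toRingEquiv)) fun x => by
        obtain ⟨x, rfl⟩ := Ideal.Quotient.mk_surjective x
        show (Algebra.TensorProduct.quotIdealMapEquivTensorQuot B I).symm
            ((Algebra.TensorProduct.comm A (A ⧸ I) B) (Ideal.Quotient.mk I x ⊗ₜ[A] (1 : B))) =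
          algebraMap B (B ⧸ I.map (algebraMap A B)) (algebraMap A B x)
        rw [AlgEquiv.symm_apply_eq, AlgEquiv.commutes, Algebra.TensorProduct.comm_tmul, Algebra.TensorProduct.algebraMap_apply,
          Algebra.algebraMap_eq_smul_one (A := B) x, Algebra.algebraMap_self, RingHom.id_apply, TensorProduct.smul_tmul,
          ← Algebra.algebraMap_eq_smul_one]
        rfl)
  let e := Spec.map (CommRingCat.ofHom (algebraMap (A ⧸ I) (B ⧸ I.map (algebraMap A B))))
  haveI : Etale e := HasRingHomProperty.Spec_iff.mpr hfe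
  haveI := Groth.Agent.AlgSpD.locallyQuasiFinite_of_etale e
  refine ⟨?_, fun x y hxy => ?_⟩
  · rw [← IsHomeomorph.topologicalKrullDim_eq _ (zlHomeo (I.map (algebraMap A B))).isHomeomorph,
      ← IsHomeomorph.topologicalKrullDim_eq _ (zlHomeo I).isHomeomorph]
    exact Groth.Agent.AlgSpD.topologicalKrullDim_le_of_lqf e
  · obtain ⟨x, rfl⟩ := (zlHomeo _).surjective x
    obtain ⟨y, rfl⟩ := (zlHomeo _).surjective y
    rw [localDim_eq_of_homeo, localDim_eq_of_homeo]
    have hy : y = e x := by
      apply (zlHomeo I).injective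
      refine Subtype.ext ?_
      refine PrimeSpectrum.ext ?_
      refine (congrArg PrimeSpectrum.asIdeal hxy).symm.trans ?_
      show (x.asIdeal.comap (Ideal.Quotient.mk (I.map (algebraMap A B)))).comap (algebraMap A B) =
        (x.asIdeal.comap (algebraMap (A ⧸ I) (B ⧸ I.map (algebraMap A B)))).comap (Ideal.Quotient.mk I)
      rw [Ideal.comap_comap, Ideal.comap_comap]
      rfl
    rw [hy]
    exact (Groth.Agent.AlgSpD.localDim_apply_eq e x).symm

variable {R R' S S' : Type u} [CommRing R] [CommRing R'] [CommRing S] [CommRing S']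
  [Algebra R R'] [Algebra R S] [Algebra R' S'] [Algebra R S'] [Algebra S S']
  [IsScalarTower R R' S'] [IsScalarTower R S S']
  (p : Ideal R) [p.IsPrime] (p' : Ideal R') [p'.IsPrime] [hp' : p'.LiesOver p]

/-- An etale map of fibre rings over the given map. -/
theorem exists_fibreMap [Algebra.Etale R R'] [Algebra.Etale S S']
    (hκ : Function.Bijective (Ideal.ResidueField.mapₐ p p' (Algebra.ofId R R') hp'.over)) :
    ∃ φ : p.Fiber S →+* p'.Fiber S', φ.Etale ∧
      ∀ s, φ ((Algebra.TensorProduct.includeRight : S →ₐ[R] p.Fiber S) s) =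
        (Algebra.TensorProduct.includeRight : S' →ₐ[R'] p'.Fiber S') (algebraMap S S' s) := by
  let SR := R' ⊗[R] S
  letI : Algebra S SR := Algebra.TensorProduct.rightAlgebra
  haveI : Algebra.IsPushout R R' S SR := TensorProduct.isPushout
  let l : SR →ₐ[R'] S' := Algebra.TensorProduct.lift (Algebra.ofId R' S') (IsScalarTower.toAlgHom R S S')
    (fun _ _ => Commute.all _ _)
  letI : Algebra SR S' := l.toRingHom.toAlgebra
  haveI : IsScalarTower S SR S' := IsScalarTower.of_algebraMap_eq fun s => by
    refine (Eq.trans ?_ (Algebra.TensorProduct.lift_tmul (Algebra.ofId R' S') (IsScalarTower.toAlgHom R S S')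
      (fun _ _ => Commute.all _ _) 1 s).symm)
    rw [map_one, one_mul]
    rfl
  haveI : IsScalarTower R' SR S' := IsScalarTower.of_algebraMap_eq fun r => (l.commutes r).symm
  haveI : Algebra.Etale S SR := by
    haveI : Algebra.Etale S (S ⊗[R] R') := inferInstance
    exact Algebra.Etale.of_equiv (A := S ⊗[R] R')
      (AlgEquiv.ofRingEquiv (f := (Algebra.TensorProduct.comm R S R').toRingEquiv) fun _ => rfl)
  haveI : Algebra.Etale SR S' := Algebra.Etale.of_restrictScalars S SR S'
  let F := p'.Fiber SR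
  let F' := p'.Fiber S'
  let ψ : F →ₐ[p'.ResidueField] F' :=
    Algebra.TensorProduct.map (AlgHom.id p'.ResidueField p'.ResidueField) (IsScalarTower.toAlgHom R' SR S')
  have hψ : ψ.toRingHom.Etale := by
    letI : Algebra F F' := ψ.toRingHom.toAlgebra
    letI : Algebra SR F := Algebra.TensorProduct.rightAlgebra
    letI : Algebra S' F' := Algebra.TensorProduct.rightAlgebra
    letI : Algebra SR F' := ((algebraMap S' F').comp (algebraMap SR S')).toAlgebra
    haveI : IsScalarTower SR S' F' := IsScalarTower.of_algebraMap_eq fun _ => rfl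
    haveI : IsScalarTower SR F F' := IsScalarTower.of_algebraMap_eq fun _ => rfl
    haveI : IsScalarTower p'.ResidueField F F' := IsScalarTower.of_algebraMap_eq fun r => (ψ.commutes r).symm
    haveI : IsScalarTower R' F F' := IsScalarTower.of_algebraMap_eq fun r => ((ψ.restrictScalars R').commutes r).symm
    haveI : Algebra.IsPushout R' SR p'.ResidueField F := Algebra.IsPushout.symm TensorProduct.isPushout
    haveI : Algebra.IsPushout R' S' p'.ResidueField F' := Algebra.IsPushout.symm TensorProduct.isPushout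
    haveI : Algebra.IsPushout SR S' F F' :=
      ((Algebra.IsPushout.comp_iff (R := R') (S := SR) (R' := p'.ResidueField) (S' := F) (T := S') (T' := F')).mp
        inferInstance)
    haveI : Algebra.IsPushout SR F S' F' := Algebra.IsPushout.symm inferInstance
    haveI : Algebra.Etale F (F ⊗[SR] S') := inferInstance
    exact RingHom.etale_algebraMap.mpr (Algebra.Etale.of_equiv (A := F ⊗[SR] S') (Algebra.IsPushout.equiv SR F S' F'))
  let ε := S12239.fibreEquiv (S := S) (S' := SR) p p' hκ
  refine ⟨ψ.toRingHom.comp ε.symm.toRingHom,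
    RingHom.Etale.stableUnderComposition _ _ (RingHom.Etale.of_bijective ε.symm.bijective) hψ, fun s => ?_⟩
  show ψ (ε.symm ((Algebra.TensorProduct.includeRight : S →ₐ[R] p.Fiber S) s)) = _
  rw [show ε.symm ((Algebra.TensorProduct.includeRight : S →ₐ[R] p.Fiber S) s) =
    (Algebra.TensorProduct.includeRight : SR →ₐ[R'] F) (algebraMap S SR s) from by
      rw [RingEquiv.symm_apply_eq, S12239.fibreEquiv_include]]
  show (1 : p'.ResidueField) ⊗ₜ[R'] (algebraMap SR S' (algebraMap S SR s)) = (1 : p'.ResidueField) ⊗ₜ[R'] algebraMap S S' s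
  rw [← IsScalarTower.algebraMap_apply S SR S']

variable {N N' : Type u} [AddCommGroup N] [Module S N] [Module R N] [IsScalarTower R S N] [Module.Finite S N]
  [AddCommGroup N'] [Module S' N'] [Module S N'] [IsScalarTower S S' N'] [Module R' N'] [IsScalarTower R' S' N']

/-- Dimensions of fibre supports are unchanged by compatible etale neighbourhoods. -/
theorem fibre_etale [Algebra.Etale R R'] [Algebra.Etale S S']
    (hκ : Function.Bijective (Ideal.ResidueField.mapₐ p p' (Algebra.ofId R R') hp'.over))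
    (f : N →ₗ[S] N') (hf : IsBaseChange S' f)
    (q : Ideal S) [q.IsPrime] [q.LiesOver p] (q' : Ideal S') [q'.IsPrime] [q'.LiesOver p']
    (hq : q'.comap (algebraMap S S') = q) (n : ℕ)
    (hdim : Module.supportDim (p.Fiber S) (FlatCA.fiberMod p S N) = n)
    (h1 : ∃ (ξ : PrimeSpectrum (p.Fiber S)) (hξ : ξ ∈ Module.support (p.Fiber S) (FlatCA.fiberMod p S N)),
      ξ.asIdeal = FlatCA.fiberIdeal p q ∧
      FlatMor.localDim (Module.support (p.Fiber S) (FlatCA.fiberMod p S N)) ⟨ξ, hξ⟩ = n) :
    Module.supportDim (p'.Fiber S') (FlatCA.fiberMod p' S' N') = n ∧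
    ∃ (ξ : PrimeSpectrum (p'.Fiber S')) (hξ : ξ ∈ Module.support (p'.Fiber S') (FlatCA.fiberMod p' S' N')),
      ξ.asIdeal = FlatCA.fiberIdeal p' q' ∧
      FlatMor.localDim (Module.support (p'.Fiber S') (FlatCA.fiberMod p' S' N')) ⟨ξ, hξ⟩ = n := by
  haveI : Module.Finite S' N' := Module.Finite.equiv hf.equiv
  obtain ⟨φ, hφ, hφi⟩ := exists_fibreMap (S := S) (S' := S') p p' hκ
  letI : Algebra (p.Fiber S) (p'.Fiber S') := φ.toAlgebra
  haveI : Algebra.Etale (p.Fiber S) (p'.Fiber S') := hφ
  let i := (Algebra.TensorProduct.includeRight : S →ₐ[R] p.Fiber S).toRingHom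
  let i' := (Algebra.TensorProduct.includeRight : S' →ₐ[R'] p'.Fiber S').toRingHom
  letI : Algebra S (p.Fiber S) := Algebra.TensorProduct.rightAlgebra
  haveI : Module.Finite (p.Fiber S) (FlatCA.fiberMod p S N) :=
    inferInstanceAs (Module.Finite (p.Fiber S) ((p.Fiber S) ⊗[S] N))
  letI : Algebra S' (p'.Fiber S') := Algebra.TensorProduct.rightAlgebra
  haveI : Module.Finite (p'.Fiber S') (FlatCA.fiberMod p' S' N') :=
    inferInstanceAs (Module.Finite (p'.Fiber S') ((p'.Fiber S') ⊗[S'] N'))
  let I := Module.annihilator (p.Fiber S) (FlatCA.fiberMod p S N)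
  have hcomap : ∀ x : PrimeSpectrum (p'.Fiber S'),
      ((PrimeSpectrum.preimageHomeomorphFiber R S ⟨p, inferInstance⟩).symm (PrimeSpectrum.comap φ x)).1 =
        PrimeSpectrum.comap (algebraMap S S')
          ((PrimeSpectrum.preimageHomeomorphFiber R' S' ⟨p', inferInstance⟩).symm x).1 := by
    intro x
    refine PrimeSpectrum.ext ?_
    show (x.asIdeal.comap φ).comap i = (x.asIdeal.comap i').comap (algebraMap S S')
    rw [Ideal.comap_comap, Ideal.comap_comap]
    exact congrArg (fun g => Ideal.comap g x.asIdeal) (RingHom.ext hφi)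
  have hsupp : Module.support (p'.Fiber S') (FlatCA.fiberMod p' S' N') =
      PrimeSpectrum.zeroLocus (I.map (algebraMap (p.Fiber S) (p'.Fiber S')) : Set (p'.Fiber S')) := by
    ext x
    rw [S12242.mem_support_fiberMod, S12231.support_baseChange hf, PrimeSpectrum.mem_zeroLocus, PrimeSpectrum.mem_zeroLocus]
    show (Ideal.map (algebraMap S S') (Module.annihilator S N) ≤ _) ↔ I.map φ ≤ x.asIdeal
    rw [Ideal.map_le_iff_le_comap, Ideal.map_le_iff_le_comap]
    have h2 := S12242.mem_support_fiberMod (N := N) p (PrimeSpectrum.comap φ x)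
    rw [Module.support_eq_zeroLocus, Module.support_eq_zeroLocus, hcomap] at h2
    exact h2.symm
  obtain ⟨ξ, hξ, hξq, hloc⟩ := h1
  haveI := RGFlat.fiberIdeal_isPrime p' q'
  let ξ' : PrimeSpectrum (p'.Fiber S') := ⟨FlatCA.fiberIdeal p' q', inferInstance⟩
  have hξξ : PrimeSpectrum.comap φ ξ' = ξ := by
    apply (PrimeSpectrum.preimageHomeomorphFiber R S ⟨p, inferInstance⟩).symm.injective
    refine Subtype.ext ?_
    rw [hcomap]
    refine PrimeSpectrum.ext ?_
    show (ξ'.asIdeal.comap i').comap (algebraMap S S') = ξ.asIdeal.comap i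
    rw [hξq, FlatMisc.Fiber.comap_fiberIdeal p q]
    exact (congrArg (Ideal.comap (algebraMap S S')) (FlatMisc.Fiber.comap_fiberIdeal p' q')).trans hq
  have hξ' : ξ' ∈ Module.support (p'.Fiber S') (FlatCA.fiberMod p' S' N') := by
    rw [hsupp, PrimeSpectrum.mem_zeroLocus]
    refine Ideal.map_le_iff_le_comap.mpr ?_
    rw [Module.support_eq_zeroLocus] at hξ
    exact le_of_le_of_eq hξ (congrArg PrimeSpectrum.asIdeal hξξ).symm
  obtain ⟨hle, hld⟩ := closed_etale (A := p.Fiber S) (B := p'.Fiber S') I
  have hloc' : FlatMor.localDim (Module.support (p'.Fiber S') (FlatCA.fiberMod p' S' N')) ⟨ξ', hξ'⟩ = n := by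
    rw [← localDim_eq_of_homeo (Homeomorph.setCongr hsupp) ⟨ξ', hξ'⟩,
      hld (Homeomorph.setCongr hsupp ⟨ξ', hξ'⟩) (Homeomorph.setCongr Module.support_eq_zeroLocus ⟨ξ, hξ⟩) hξξ,
      localDim_eq_of_homeo]
    exact hloc
  refine ⟨?_, ξ', hξ', rfl, hloc'⟩
  rw [S12242.supportDim_eq_topDim]
  refine le_antisymm ?_ (hloc'.symm.le.trans (TopDimLib.localDim_le_topDim _))
  rw [IsHomeomorph.topologicalKrullDim_eq _ (Homeomorph.setCongr hsupp).isHomeomorph]
  refine hle.trans (le_of_eq ?_)
  rw [← hdim, S12242.supportDim_eq_topDim]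
  exact (IsHomeomorph.topologicalKrullDim_eq _ (Homeomorph.setCongr Module.support_eq_zeroLocus).isHomeomorph).symm

end Groth.Agent.EtaleDev
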